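import Cfsg.Agent.Lib.Fischer3T.TripleCentralizer

/-!
# `L ∩ C(d₁d₂d₃)`: the generalised Fitting subgroup and the two quotients
-/

set_option autoImplicit false

namespace Cfsg.Agent.Lib.Fischer3T

open Cfsg Cfsg.Agent.Lib.ThreeTransp Cfsg.Agent.Lib.M22Struct66
open scoped commutatorElement

universe u

variable {G : Type u} [Group G] [Finite G] {D : Set G}

/-- An element of `C(d₁d₂d₃)` permutes the factors, every permutation occurs, and the kernel is
`C(d₁, d₂, d₃)`. -/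
theorem exists_perm_hom (hT : ∀ d ∈ D, TripleHyp D d) (hN4 : Products.NoProd D 4) (hN6 : Products.NoProd D 6)
    {d₁ d₂ d₃ : G} (hd₁ : d₁ ∈ D) (h₂ : d₂ ∈ nb D d₁) (h₃ : d₃ ∈ nb D d₁ ∩ nb D d₂) :
    ∃ ρ : ↥(Subgroup.centralizer ({d₁ * d₂ * d₃} : Set G)) →* Equiv.Perm (Fin 3),
      Function.Surjective ρ ∧ ρ.ker = (Subgroup.centralizer ({d₁, d₂, d₃} : Set G)).subgroupOf _ := by
  classical
  have hD := (hT d₁ hd₁).grp
  have hgood := (hT d₁ hd₁).good
  have h12 : d₁ ≠ d₂ := fun e => h₂.2.1 e.symm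
  have h13 : d₁ ≠ d₃ := fun e => h₃.1.2.1 e.symm
  have h23 : d₂ ≠ d₃ := fun e => h₃.2.2.1 e.symm
  have c12 := h₂.2.2
  have c13 := h₃.1.2.2
  have c23 := h₃.2.2.2
  set C := Subgroup.centralizer ({d₁ * d₂ * d₃} : Set G)
  let f : Fin 3 → G := ![d₁, d₂, d₃]
  have hf : Function.Injective f := by
    intro i j
    fin_cases i <;> fin_cases j <;> simp [f, h12, h13, h23, h12.symm, h13.symm, h23.symm]
  have hfD : ∀ i, f i ∈ D := by intro i; fin_cases i <;> simp [f, hd₁, h₂.1, h₃.1.1]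
  have hfc : ∀ i j, Commute (f i) (f j) := by
    intro i j
    fin_cases i <;> fin_cases j <;> simp [f, c12, c13, c23, c12.symm, c13.symm, c23.symm, Commute.refl]
  have hperm : ∀ g : C, ∀ i, ∃ j, f j = (g : G) * f i * (g : G)⁻¹ := by
    intro g i
    have hnd : [d₁, d₂, d₃].Nodup := by simp [h12, h13, h23]
    have hmem : ∀ a ∈ [d₁, d₂, d₃], a ∈ D := by simp [hd₁, h₂.1, h₃.1.1]
    have hcomm : ∀ a ∈ [d₁, d₂, d₃], ∀ b ∈ [d₁, d₂, d₃], Commute a b := by
      simp [c12, c13, c23, c12.symm, c13.symm, c23.symm, Commute.refl]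
    set φ := (MulAut.conj (g : G)).toMonoidHom
    have hu := Products.factorization_unique hD.1 hD.2.1 3 le_rfl ?_
      ([d₁, d₂, d₃].map φ) [d₁, d₂, d₃] (hnd.map (MulAut.conj (g : G)).injective) hnd (by simp) (by simp)
      ?_ hmem ?_ hcomm ?_ (φ (f i))
    · have : φ (f i) ∈ [d₁, d₂, d₃] := hu.1 (by fin_cases i <;> simp [f])
      simp only [List.mem_cons, List.not_mem_nil, or_false] at this
      rcases this with e | e | e
      exacts [⟨0, e.symm⟩, ⟨1, e.symm⟩, ⟨2, e.symm⟩]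
    · intro k hk1 hkm
      obtain rfl | rfl | rfl : k = 1 ∨ k = 2 ∨ k = 3 := by omega
      · exact Products.noProd_le_three hD.1 hD.2.1 hD.2.2 hgood.center (by norm_num) (by norm_num)
      · exact hN4
      · exact hN6
    · intro a ha
      obtain ⟨b, hb, rfl⟩ := List.mem_map.1 ha
      exact hD.2.1 _ b (hmem b hb)
    · intro a ha b hb
      obtain ⟨a', ha', rfl⟩ := List.mem_map.1 ha
      obtain ⟨b', hb', rfl⟩ := List.mem_map.1 hb
      exact (hcomm a' ha' b' hb').map φ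
    · rw [← map_list_prod]
      show (g : G) * [d₁, d₂, d₃].prod * (g : G)⁻¹ = _
      rw [show [d₁, d₂, d₃].prod = d₁ * d₂ * d₃ by simp [mul_assoc],
        Subgroup.mem_centralizer_singleton_iff.1 g.2, mul_inv_cancel_right]
  choose σ hσ using hperm
  let ψ : C →* Function.End (Fin 3) :=
    { toFun := σ
      map_one' := funext fun i => hf (by rw [hσ]; simp [Function.End.one_def])
      map_mul' := fun g h => funext fun i => hf (by
        show f (σ (g * h) i) = f (σ g (σ h i))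
        rw [hσ, hσ, hσ]; simp [mul_assoc]) }
  let ρ : C →* Equiv.Perm (Fin 3) := (Equiv.Perm.equivUnitsEnd.symm.toMonoidHom).comp ψ.toHomUnits
  have hρ : ∀ g i, f (ρ g i) = (g : G) * f i * (g : G)⁻¹ := fun g i => hσ g i
  refine ⟨ρ, ?_, ?_⟩
  · have hswap : ∀ i j : Fin 3, i ≠ j → Equiv.swap i j ∈ ρ.range := by
      intro i j hij
      obtain ⟨k, hki, hkj⟩ : ∃ k : Fin 3, k ≠ i ∧ k ≠ j := by revert i j; decide
      have hmemnb : ∀ l, l ≠ k → f l ∈ nb D (f k) := fun l hl => ⟨hfD l, hf.ne hl, hfc k l⟩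
      have hQ := (hT _ (hfD k)).quot_pair _ (LiftHyp.bar_mem (hmemnb i hki.symm))
      obtain ⟨g, g1, g2, g3⟩ := (hT _ (hfD k)).exists_swap (hfD k) hQ.grp hQ.good
        (hmemnb i hki.symm) (hmemnb j hkj.symm) (hfc i j)
      have hgC : g ∈ C := by
        refine Subgroup.mem_centralizer_singleton_iff.2 ?_
        have hprod : g * (f i * f j * f k) * g⁻¹ = f i * f j * f k := by
          calc g * (f i * f j * f k) * g⁻¹ = (g * f i * g⁻¹) * (g * f j * g⁻¹) * (g * f k * g⁻¹) := by group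
            _ = _ := by rw [g1, g2, g3, (hfc j i).eq]
        have hj : f i * f j * f k = d₁ * d₂ * d₃ := by
          fin_cases i <;> fin_cases j <;> fin_cases k <;> simp_all [f]
          all_goals simp [mul_assoc, c12.eq, c13.eq, c23.eq, c12.left_comm, c13.left_comm, c23.left_comm]
        rw [hj] at hprod
        exact mul_inv_eq_iff_eq_mul.1 hprod
      refine ⟨⟨g, hgC⟩, Equiv.ext fun l => hf ?_⟩
      rw [hρ]
      have hd3 : ∀ i j k l : Fin 3, i ≠ j → k ≠ i → k ≠ j → l = i ∨ l = j ∨ l = k := by decide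
      obtain rfl | rfl | rfl := hd3 i j k l hij hki hkj
      · rw [Equiv.swap_apply_left]; exact g2
      · rw [Equiv.swap_apply_right]; exact g3
      · rw [Equiv.swap_apply_of_ne_of_ne hki hkj]; exact g1
    rw [← MonoidHom.range_eq_top, ← top_le_iff, ← Equiv.Perm.closure_isSwap, Subgroup.closure_le]
    rintro s ⟨i, j, hij, rfl⟩
    exact hswap i j hij
  · ext g
    rw [MonoidHom.mem_ker, Subgroup.mem_subgroupOf, Subgroup.mem_centralizer_iff]
    simp only [Set.mem_insert_iff, Set.mem_singleton_iff, forall_eq_or_imp, forall_eq]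
    constructor
    · intro h
      have hh : ∀ i, f i * g = g * f i := fun i => by
        have := hρ g i
        rw [h] at this
        exact (mul_inv_eq_iff_eq_mul.1 this.symm).symm
      exact ⟨hh 0, hh 1, hh 2⟩
    · rintro ⟨e1, e2, e3⟩
      refine Equiv.ext fun i => hf ?_
      rw [hρ]
      fin_cases i <;> simp [f, ← e1, ← e2, ← e3]

/-- The action on the central quotient of a normal perfect subgroup. -/
theorem exists_action {C : Subgroup G} {K : Subgroup G} (hKC : K ≤ C)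
    (hn : ∀ c ∈ C, ∀ k ∈ K, c * k * c⁻¹ ∈ K) (hperf : commutator ↥K = ⊤) :
    ∃ χ : ↥C →* MulAut (↥K ⧸ Subgroup.center ↥K),
      ∀ c, χ c = 1 ↔ ∀ k ∈ K, Commute (c : G) k := by
  classical
  let a₀ : ↥C → ↥K →* ↥K := fun c =>
    ((MulAut.conj (c : G)).toMonoidHom.comp K.subtype).codRestrict K fun k => hn c c.2 k k.2
  have ha : ∀ c k, ((a₀ c k : ↥K) : G) = (c : G) * k * (c : G)⁻¹ := fun c k => rfl
  let a : ↥C →* MulAut ↥K :=
    { toFun := fun c => MulEquiv.mk' ⟨a₀ c, a₀ c⁻¹,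
        fun k => Subtype.ext (by simp [ha, mul_assoc]), fun k => Subtype.ext (by simp [ha, mul_assoc])⟩
        (map_mul (a₀ c))
      map_one' := MulEquiv.ext fun k => Subtype.ext (show ((a₀ 1 k : ↥K) : G) = k by simp [ha])
      map_mul' := fun c c' => MulEquiv.ext fun k => Subtype.ext
        (show ((a₀ (c * c') k : ↥K) : G) = ((a₀ c (a₀ c' k) : ↥K) : G) by simp [ha, mul_assoc]) }
  have haa : ∀ c k, a c k = a₀ c k := fun c k => rfl
  have hmap : ∀ φ : MulAut ↥K, (Subgroup.center ↥K).map (φ : ↥K →* ↥K) = Subgroup.center ↥K := fun φ =>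
    Subgroup.characteristic_iff_map_eq.1 inferInstance φ
  let χ : ↥C →* MulAut (↥K ⧸ Subgroup.center ↥K) :=
    { toFun := fun c => QuotientGroup.congr _ _ (a c) (hmap _)
      map_one' := MulEquiv.ext fun x => by
        induction x using QuotientGroup.induction_on with
        | H k => rw [QuotientGroup.congr_mk, map_one]; rfl
      map_mul' := fun c c' => MulEquiv.ext fun x => by
        induction x using QuotientGroup.induction_on with
        | H k =>
          rw [MulAut.mul_apply, QuotientGroup.congr_mk, QuotientGroup.congr_mk, QuotientGroup.congr_mk,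
            map_mul, MulAut.mul_apply] }
  refine ⟨χ, fun c => ⟨fun h k hk => ?_, fun h => MulEquiv.ext fun x => ?_⟩⟩
  · have hz : ∀ b : ↥K, (a₀ c b) * b⁻¹ ∈ Subgroup.center ↥K := fun b => by
      have h1 : χ c (QuotientGroup.mk b) = QuotientGroup.mk b := by rw [h]; rfl
      rw [show χ c (QuotientGroup.mk b) = QuotientGroup.mk (a₀ c b) from QuotientGroup.congr_mk _ _ _ (hmap (a c)) b] at h1
      exact Subgroup.Normal.mem_comm inferInstance (QuotientGroup.eq.1 h1.symm)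
    have hle : commutator ↥K ≤ (a₀ c).eqLocus (MonoidHom.id _) := by
      rw [commutator_def, Subgroup.commutator_le]
      intro p _ q _
      show a₀ c ⁅p, q⁆ = ⁅p, q⁆
      rw [map_commutatorElement]
      have hu := Subgroup.mem_center_iff.1 (hz p)
      have hv := Subgroup.mem_center_iff.1 (hz q)
      rw [show a₀ c p = (a₀ c p * p⁻¹) * p by group, show a₀ c q = (a₀ c q * q⁻¹) * q by group]
      generalize a₀ c p * p⁻¹ = u at hu
      generalize a₀ c q * q⁻¹ = v at hv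
      rw [commutatorElement_def, commutatorElement_def]
      calc u * p * (v * q) * (u * p)⁻¹ * (v * q)⁻¹ = u * (p * v) * q * p⁻¹ * u⁻¹ * q⁻¹ * v⁻¹ := by group
        _ = u * (v * p) * q * p⁻¹ * u⁻¹ * q⁻¹ * v⁻¹ := by rw [hv p]
        _ = (u * (v * p * q * p⁻¹)) * u⁻¹ * q⁻¹ * v⁻¹ := by group
        _ = (v * p * q * p⁻¹ * u) * u⁻¹ * q⁻¹ * v⁻¹ := by rw [hu (v * p * q * p⁻¹)]
        _ = v * (p * q * p⁻¹ * q⁻¹) * v⁻¹ := by group
        _ = p * q * p⁻¹ * q⁻¹ := by rw [← hv, mul_inv_cancel_right]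
    have h2 : a₀ c ⟨k, hk⟩ = ⟨k, hk⟩ := hle (hperf ▸ Subgroup.mem_top _)
    exact mul_inv_eq_iff_eq_mul.1 ((ha c ⟨k, hk⟩).symm.trans (congrArg Subtype.val h2))
  · induction x using QuotientGroup.induction_on with
    | H b =>
      show χ c (QuotientGroup.mk b) = QuotientGroup.mk b
      rw [show χ c (QuotientGroup.mk b) = QuotientGroup.mk (a₀ c b) from QuotientGroup.congr_mk _ _ _ (hmap (a c)) b,
        show a₀ c b = b from Subtype.ext (by rw [ha, (h b b.2).eq, mul_inv_cancel_right])]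

/-- All about `L ∩ C(d₁d₂d₃)`. -/
theorem triple_prod_centralizer (hT : ∀ d ∈ D, TripleHyp D d) (hN4 : Products.NoProd D 4)
    (hN6 : Products.NoProd D 6) (L : Subgroup G) (hidx : L.index = 2) (hout : ∀ d ∈ D, d ∉ L)
    {d₁ d₂ d₃ : G} (hd₁ : d₁ ∈ D) (h₂ : d₂ ∈ nb D d₁) (h₃ : d₃ ∈ nb D d₁ ∩ nb D d₂)
    (E CL K : Subgroup G) (hE : E = Subgroup.closure ({d₁ * d₂, d₁ * d₃} : Set G))
    (hCL : CL = L ⊓ Subgroup.centralizer ({d₁ * d₂ * d₃} : Set G))
    (hK : K = (generalizedFittingSubgroup ↥CL).map CL.subtype) :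
    IsQuasisimple ↥K ∧ (Subgroup.center ↥K).map K.subtype = E ∧
      K = L ⊓ Subgroup.centralizer (E : Set G) ∧
      (∃ (_ : (E.subgroupOf K).Normal) (F : Type) (_ : Field F) (_ : Fintype F),
        Fintype.card F = 4 ∧ Nonempty (↥K ⧸ E.subgroupOf K ≃* PSU 6 F 2)) ∧
      ∃ _ : (K.subgroupOf CL).Normal, Nonempty (↥CL ⧸ K.subgroupOf CL ≃* Equiv.Perm (Fin 3)) ∧ E ≤ CL ∧
        ∃ (_ : (E.subgroupOf CL).Normal) (F : Type) (_ : Field F) (_ : Fintype F),
          Fintype.card F = 4 ∧ Nonempty (↥CL ⧸ E.subgroupOf CL ≃* MulAut (PSU 6 F 2)) := by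
  classical
  have hH := hT d₁ hd₁
  have hD := hH.grp
  set K₀ := L ⊓ Subgroup.centralizer ({d₁, d₂, d₃} : Set G) with hK₀
  obtain ⟨hqs, hZ, F, iF, iF', hF, ⟨eP⟩⟩ := triple_derived hH hd₁ h₂ h₃ L hidx hout
  set C := Subgroup.centralizer ({d₁ * d₂ * d₃} : Set G)
  obtain ⟨ρ, hρs, hρk⟩ := exists_perm_hom hT hN4 hN6 hd₁ h₂ h₃
  have hj : ∀ k : G, k ∈ Subgroup.centralizer ({d₁, d₂, d₃} : Set G) → k ∈ C := by
    intro k hk
    simp only [Subgroup.mem_centralizer_iff, Set.mem_insert_iff, Set.mem_singleton_iff, forall_eq_or_imp,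
      forall_eq] at hk
    exact Subgroup.mem_centralizer_singleton_iff.2 ((((show Commute k d₁ from hk.1.symm).mul_right
      hk.2.1.symm).mul_right hk.2.2.symm)).eq
  have hK₀CL : K₀ ≤ CL := fun k hk => hCL ▸ ⟨hk.1, hj k hk.2⟩
  have hCLC : CL ≤ C := hCL ▸ inf_le_right
  let ρ' : ↥CL →* Equiv.Perm (Fin 3) := ρ.comp (Subgroup.inclusion hCLC)
  have hρ'k : ρ'.ker = K₀.subgroupOf CL := by
    ext g
    rw [MonoidHom.mem_ker, Subgroup.mem_subgroupOf]
    show ρ (Subgroup.inclusion hCLC g) = 1 ↔ _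
    rw [← MonoidHom.mem_ker, hρk, Subgroup.mem_subgroupOf]
    exact ⟨fun h => ⟨(hCL ▸ g.2 : (g : G) ∈ L ⊓ C).1, h⟩, fun h => h.2⟩
  have hd₁C : d₁ ∈ Subgroup.centralizer ({d₁, d₂, d₃} : Set G) := by
    simp only [Subgroup.mem_centralizer_iff, Set.mem_insert_iff, Set.mem_singleton_iff, forall_eq_or_imp,
      forall_eq]
    exact ⟨trivial, h₂.2.2.eq.symm, h₃.1.2.2.eq.symm⟩
  have hρ's : Function.Surjective ρ' := by
    intro s
    obtain ⟨g, hg⟩ := hρs s
    by_cases hgL : (g : G) ∈ L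
    · exact ⟨⟨g, hCL ▸ ⟨hgL, g.2⟩⟩, hg⟩
    · have h1 : ρ ⟨d₁, hj _ hd₁C⟩ = 1 := by rw [← MonoidHom.mem_ker, hρk]; exact hd₁C
      refine ⟨⟨(g : G) * d₁, hCL ▸ ⟨(Subgroup.mul_mem_iff_of_index_two hidx).2
        (iff_of_false hgL (hout _ hd₁)), mul_mem g.2 (hj _ hd₁C)⟩⟩, ?_⟩
      show ρ (g * ⟨d₁, hj _ hd₁C⟩) = s
      rw [map_mul, h1, mul_one, hg]
  have hn₀ : (K₀.subgroupOf CL).Normal := hρ'k ▸ inferInstance
  have hEK : E ≤ K₀ := by
    rw [hE, ← hZ]
    exact Subgroup.map_subtype_le _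
  have hpairs := centralizer_pairs hD hH.good hN4 hd₁ h₂ h₃
  rw [← hE] at hpairs
  have hcc : Subgroup.centralizer ((K₀.subgroupOf CL : Subgroup ↥CL) : Set ↥CL) ≤ K₀.subgroupOf CL := by
    intro g hg
    rw [Subgroup.mem_subgroupOf]
    refine ⟨(hCL ▸ g.2 : (g : G) ∈ L ⊓ C).1, ?_⟩
    rw [← hpairs]
    refine Subgroup.mem_centralizer_iff.2 ?_
    exact fun e he => congrArg Subtype.val
      (Subgroup.mem_centralizer_iff.1 hg ⟨e, hK₀CL (hEK he)⟩ (hEK he))
  have hKK : K = K₀ := by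
    rw [hK, generalizedFittingSubgroup_eq_of_quasisimple hn₀
      ((Components.quasisimple_subgroupOf_iff hK₀CL).2 hqs) hcc, Subgroup.map_subgroupOf_eq_of_le hK₀CL]
  subst hKK
  have hEsub : E.subgroupOf K₀ = Subgroup.center ↥K₀ := by
    rw [hE, ← hZ, Subgroup.subgroupOf, Subgroup.comap_map_eq_self_of_injective K₀.subtype_injective]
  refine ⟨hqs, hE ▸ hZ, by rw [hpairs], ⟨hEsub ▸ inferInstance, F, iF, iF', hF, ?_⟩, hn₀,
    ⟨(QuotientGroup.quotientMulEquivOfEq hρ'k.symm).trans (QuotientGroup.quotientKerEquivOfSurjective ρ' hρ's)⟩,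
    hEK.trans hK₀CL, ?_⟩
  · haveI : (E.subgroupOf K₀).Normal := hEsub ▸ inferInstance
    exact ⟨(QuotientGroup.quotientMulEquivOfEq hEsub).trans eP⟩
  obtain ⟨χ, hχ⟩ := exists_action hK₀CL
    (fun c hc k hk => hn₀.conj_mem ⟨k, hK₀CL hk⟩ hk ⟨c, hc⟩) hqs.1.commutator_eq_top
  have hχk : χ.ker = E.subgroupOf CL := by
    ext g
    rw [MonoidHom.mem_ker, hχ, Subgroup.mem_subgroupOf]
    constructor
    · intro h
      have hgK : (g : G) ∈ K₀ := Subgroup.mem_subgroupOf.1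
        (hcc (Subgroup.mem_centralizer_iff.2 fun x hx => Subtype.ext (h x hx).eq.symm))
      rw [hE, ← hZ]
      exact ⟨⟨g, hgK⟩, Subgroup.mem_center_iff.2 fun k => Subtype.ext (h k k.2).eq.symm, rfl⟩
    · intro h k hk
      rw [hE, ← hZ] at h
      obtain ⟨z, hz, hzg⟩ := h
      have := congrArg Subtype.val (Subgroup.mem_center_iff.1 hz ⟨k, hk⟩)
      rw [← hzg]
      exact this.symm
  let χ' : ↥CL →* MulAut (PSU 6 F 2) := (MulAut.congr eP).toMonoidHom.comp χ
  have hχ'k : χ'.ker = E.subgroupOf CL := by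
    rw [← hχk]
    ext g
    simp only [MonoidHom.mem_ker, χ']
    exact (MulAut.congr eP).map_eq_one_iff
  have hnE : (E.subgroupOf CL).Normal := hχ'k ▸ inferInstance
  have hcardCL : Nat.card ↥CL = 6 * Nat.card ↥K₀ := by
    rw [Subgroup.card_eq_card_quotient_mul_card_subgroup (K₀.subgroupOf CL),
      Nat.card_congr (Subgroup.subgroupOfEquivOfLe hK₀CL).toEquiv,
      Nat.card_congr ((QuotientGroup.quotientMulEquivOfEq hρ'k.symm).trans
        (QuotientGroup.quotientKerEquivOfSurjective ρ' hρ's)).toEquiv, Nat.card_perm, Nat.card_fin]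
    rfl
  have hcardK : Nat.card ↥K₀ = Nat.card (PSU 6 F 2) * Nat.card ↥E := by
    rw [Subgroup.card_eq_card_quotient_mul_card_subgroup (Subgroup.center ↥K₀),
      Nat.card_congr eP.toEquiv, ← Nat.card_congr (Subgroup.subgroupOfEquivOfLe hEK).toEquiv, hEsub]
  have hcardE : Nat.card ↥CL = Nat.card ↥χ'.range * Nat.card ↥E := by
    rw [Subgroup.card_eq_card_quotient_mul_card_subgroup (E.subgroupOf CL),
      Nat.card_congr (Subgroup.subgroupOfEquivOfLe (hEK.trans hK₀CL)).toEquiv,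
      Nat.card_congr ((QuotientGroup.quotientMulEquivOfEq hχ'k.symm).trans
        (QuotientGroup.quotientKerEquivRange χ')).toEquiv]
  have hF' : Fintype.card F = 2 ^ 2 := by rw [hF]; rfl
  have hA := S0815.result (F := F) 2 1 le_rfl (pow_one 2).symm hF' 6 (by norm_num) (by norm_num)
  have htop : χ'.range = ⊤ := by
    refine Subgroup.eq_top_of_card_eq _ ?_
    rw [hA, show Nat.gcd 6 (2 + 1) * (2 * 1) = 6 by norm_num]
    rw [hcardE, hcardK, ← mul_assoc] at hcardCL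
    exact Nat.eq_of_mul_eq_mul_right Nat.card_pos hcardCL
  exact ⟨hnE, F, iF, iF', hF, ⟨(QuotientGroup.quotientMulEquivOfEq hχ'k.symm).trans
    (QuotientGroup.quotientKerEquivOfSurjective χ' (MonoidHom.range_eq_top.1 htop))⟩⟩

end Cfsg.Agent.Lib.Fischer3T
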