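import Cfsg.Prelude.Def_Spor_Fi22
import Cfsg.Agent.Lib.Fischer3T.CentralizerHyps
import Cfsg.Agent.Lib.Fischer3T.TripleQuotient

/-!
# Type M(24): the centraliser of `d₁d₂` in `L`

Everything follows from `Facts24` except two facts about the type M(22) quotient `R`: that it is the presented
`Fi₂₂`, and the bound on the automorphisms of that group.  Both are hypotheses of `derived_pair`.
-/

set_option autoImplicit false

namespace Cfsg.Agent.Lib.Fischer3T

open Cfsg Cfsg.Agent.Lib.ThreeTransp Cfsg.Agent.Lib.M22Struct66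
open scoped commutatorElement

universe u

variable {G : Type u} [Group G] [Finite G] {D : Set G}

/-- An element commuting with `d₁d₂` fixes or swaps the factors. -/
theorem fix_or_swap (hD : IsThreeTranspositionGroup D) (hgood : Products.Good D) (hN4 : Products.NoProd D 4)
    {d₁ d₂ : G} (hd₁ : d₁ ∈ D) (h₂ : d₂ ∈ nb D d₁) {g : G} (hg : Commute g (d₁ * d₂)) :
    (g * d₁ * g⁻¹ = d₁ ∧ g * d₂ * g⁻¹ = d₂) ∨ (g * d₁ * g⁻¹ = d₂ ∧ g * d₂ * g⁻¹ = d₁) := by
  classical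
  have hS := hD.1
  have hne : d₁ ≠ d₂ := fun e => h₂.2.1 e.symm
  set φ := (MulAut.conj g).toMonoidHom
  have hnd : [d₁, d₂].Nodup := by simp [hne]
  have hmem : ∀ a ∈ [d₁, d₂], a ∈ D := by simp [hd₁, h₂.1]
  have hcm : ∀ a ∈ [d₁, d₂], ∀ b ∈ [d₁, d₂], Commute a b := by
    simp [h₂.2.2, h₂.2.2.symm, Commute.refl]
  have hu := Products.factorization_unique hS hD.2.1 2 (by norm_num)
    (fun k h1 h2 => by
      obtain rfl | rfl : k = 1 ∨ k = 2 := by omega
      · exact Products.noProd_le_three hS hD.2.1 hD.2.2 hgood.center (by norm_num) (by norm_num)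
      · exact hN4)
    ([d₁, d₂].map φ) [d₁, d₂] (hnd.map (MulAut.conj g).injective) hnd rfl rfl
    (fun a ha => by
      obtain ⟨b, hb, rfl⟩ := List.mem_map.1 ha
      exact hD.2.1 g b (hmem b hb)) hmem
    (fun a ha b hb => by
      obtain ⟨a', ha', rfl⟩ := List.mem_map.1 ha
      obtain ⟨b', hb', rfl⟩ := List.mem_map.1 hb
      exact (hcm a' ha' b' hb').map φ) hcm
    (by
      rw [← map_list_prod, show [d₁, d₂].prod = d₁ * d₂ by simp]
      show g * (d₁ * d₂) * g⁻¹ = _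
      rw [hg.eq, mul_inv_cancel_right])
  have h1 := (hu (φ d₁)).1 (by simp)
  have h2 := (hu (φ d₂)).1 (by simp)
  have hne' : φ d₁ ≠ φ d₂ := fun e => hne ((MulAut.conj g).injective e)
  simp only [List.mem_cons, List.not_mem_nil, or_false] at h1 h2
  rcases h1 with a | a <;> rcases h2 with b | b
  exacts [absurd (a.trans b.symm) hne', Or.inl ⟨a, b⟩, Or.inr ⟨a, b⟩, absurd (a.trans b.symm) hne']

theorem derived_pair (hD : IsThreeTranspositionGroup D) (h24 : IsOfTypeM24 G D) (hF : Facts24 D)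
    {d₁ d₂ : G} (hd₁ : d₁ ∈ D) (h₂ : d₂ ∈ nb D d₁)
    (hFi : Nonempty (↥(nbGroup (derivedClass D d₁) (bar h₂)) ⧸
      Subgroup.center ↥(nbGroup (derivedClass D d₁) (bar h₂)) ≃* Spor.Fi22))
    (hAut : Nat.card (MulAut Spor.Fi22) ≤ 2 * Nat.card Spor.Fi22)
    (L : Subgroup G) (hL : L = Cfsg.layer G) (K CL : Subgroup G)
    (hK : K = L ⊓ Subgroup.centralizer ({d₁, d₂} : Set G))
    (hCL : CL = L ⊓ Subgroup.centralizer ({d₁ * d₂} : Set G))
    [((Subgroup.zpowers (d₁ * d₂)).subgroupOf CL).Normal] :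
    IsQuasisimple ↥K ∧ K = (generalizedFittingSubgroup ↥CL).map CL.subtype ∧ K ≤ CL ∧
      (K.subgroupOf CL).index = 2 ∧ d₁ * d₂ ∈ K ∧
      Nonempty (↥CL ⧸ (Subgroup.zpowers (d₁ * d₂)).subgroupOf CL ≃* MulAut Spor.Fi22) := by
  classical
  have hS := hD.1
  have hH := tripleHyp_of_facts24 hD h24 hF hd₁
  obtain ⟨-, h4, -⟩ := Products.good_m24 (Products.pre_of_group hD) h24
  rw [Products.core_eq hS] at h4
  have hb₂ : bar h₂ ∈ derivedClass D d₁ := LiftHyp.bar_mem h₂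
  have hQF := hF.derived_facts d₁ hd₁
  have hidx : L.index = 2 := hL ▸ hF.layer_index
  have hout : ∀ d ∈ D, d ∉ L := hL ▸ hF.notMem_layer
  have hne : d₁ ≠ d₂ := fun e => h₂.2.1 e.symm
  set π := QuotientGroup.mk' (Subgroup.center ↥(Subgroup.closure (nb D d₁)))
  set Q₂ := nbGroup (derivedClass D d₁) (bar h₂) with hQ₂
  have hmulL : ∀ {a b : G}, a ∉ L → b ∉ L → a * b ∈ L := fun ha hb =>
    (Subgroup.mul_mem_iff_of_index_two hidx).2 (iff_of_false ha hb)
  have hj : d₁ * d₂ ∈ L := hmulL (hout _ hd₁) (hout _ h₂.1)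
  have hKm : ∀ k : G, k ∈ K ↔ k ∈ L ∧ Commute k d₁ ∧ Commute k d₂ := fun k => by
    rw [hK, Subgroup.mem_inf, Subgroup.mem_centralizer_iff]
    simp only [Set.mem_insert_iff, Set.mem_singleton_iff, forall_eq_or_imp, forall_eq]
    exact ⟨fun h => ⟨h.1, h.2.1.symm, h.2.2.symm⟩, fun h => ⟨h.1, h.2.1.symm, h.2.2.symm⟩⟩
  have hCLm : ∀ g : G, g ∈ CL ↔ g ∈ L ∧ Commute g (d₁ * d₂) := fun g => by
    rw [hCL, Subgroup.mem_inf, Subgroup.mem_centralizer_singleton_iff]; exact Iff.rfl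
  have hKCL : K ≤ CL := fun k hk => (hCLm k).2 ⟨((hKm k).1 hk).1, ((hKm k).1 hk).2.1.mul_right ((hKm k).1 hk).2.2⟩
  have hjK : d₁ * d₂ ∈ K := (hKm _).2 ⟨hj, (Commute.refl _).mul_left h₂.2.2.symm,
    h₂.2.2.mul_left (Commute.refl _)⟩
  have hKH : K ≤ Subgroup.closure (nb D d₁) := fun k hk => by
    rw [← hH.cent_eq, Subgroup.mem_centralizer_singleton_iff]
    exact ((hKm k).1 hk).2.1.eq
  have hθmem : ∀ k : ↥K, π (Subgroup.inclusion hKH k) ∈ Q₂ := fun k => by
    rw [hQ₂, ← hQF.centralizer_eq _ hb₂, Subgroup.mem_centralizer_singleton_iff]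
    exact ((show Commute (Subgroup.inclusion hKH k) (inc h₂) from
      Subtype.ext ((hKm _).1 k.2).2.2.eq).map π).eq
  let θ : ↥K →* ↥Q₂ := (π.comp (Subgroup.inclusion hKH)).codRestrict Q₂ hθmem
  have hker : ∀ k, θ k = 1 → k = 1 := fun k hk => by
    rcases hH.eq_of_bar_eq_one hd₁ (congrArg Subtype.val hk : _) with e | e
    · exact Subtype.ext e
    · exact absurd ((hKm _).1 k.2).1 (by rw [show (k : G) = d₁ from e]; exact hout _ hd₁)
  have hθsurj : Function.Surjective θ := by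
    intro U
    obtain ⟨k, hk⟩ := QuotientGroup.mk'_surjective _ U.1
    have hU : U.1 ∈ Subgroup.centralizer {bar h₂} := by
      rw [hQF.centralizer_eq _ hb₂]; exact U.2
    have hUm : Commute (π k) (bar h₂) := by
      rw [show π k = U.1 from hk]
      exact Subgroup.mem_centralizer_singleton_iff.1 hU
    have c1 : Commute (k : G) d₁ := commute_of_mem_closure k.2
    have c2 := hH.commute_of_bar hd₁ h₂ k hUm
    by_cases hkL : (k : G) ∈ L
    · exact ⟨⟨k, (hKm _).2 ⟨hkL, c1, c2⟩⟩, Subtype.ext hk⟩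
    · refine ⟨⟨k * d₁, (hKm _).2 ⟨hmulL hkL (hout _ hd₁), c1.mul_left (Commute.refl _),
        c2.mul_left h₂.2.2⟩⟩, Subtype.ext ?_⟩
      show π (k * ⟨d₁, hF.self_mem d₁ hd₁⟩) = _
      have h1 : π ⟨d₁, hF.self_mem d₁ hd₁⟩ = 1 := (QuotientGroup.eq_one_iff _).2
        (Subgroup.mem_center_iff.2 fun g => Subtype.ext (commute_of_mem_closure g.2).eq)
      rw [map_mul, h1, mul_one]
      exact hk
  let e : ↥K ≃* ↥Q₂ := MulEquiv.ofBijective θ ⟨(injective_iff_map_eq_one θ).2 hker, hθsurj⟩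
  have hqs : IsQuasisimple ↥K := Components.quasisimple_of_mulEquiv e.symm (hQF.quasisimple _ hb₂)
  have hcen : (Subgroup.center ↥K).map e.toMonoidHom = Subgroup.center ↥Q₂ := by
    ext U
    rw [Subgroup.mem_map_equiv, Subgroup.mem_center_iff, Subgroup.mem_center_iff]
    exact ⟨fun h V => by simpa using congrArg e (h (e.symm V)),
      fun h k => e.injective (by simpa using h (e k))⟩
  have hZ : (Subgroup.center ↥K).map K.subtype = Subgroup.zpowers (d₁ * d₂) := by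
    refine le_antisymm ?_ ((Subgroup.zpowers_le).2 ⟨⟨_, hjK⟩, Subgroup.mem_center_iff.2 fun k =>
      Subtype.ext (((hKm _).1 k.2).2.1.mul_right ((hKm _).1 k.2).2.2).eq, rfl⟩)
    rintro _ ⟨k, hk, rfl⟩
    have hm : e k ∈ Subgroup.center ↥Q₂ := hcen ▸ ⟨k, hk, rfl⟩
    rw [hQF.center_nbGroup _ hb₂, Subgroup.mem_subgroupOf] at hm
    have hbb : bar h₂ * bar h₂ = 1 := by
      rw [← map_mul, show inc h₂ * inc h₂ = 1 from Subtype.ext (mul_self hS h₂.1), map_one]
    rcases zpowers_of_involution hbb hm with h | h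
    · rw [hker k (Subtype.ext h), map_one]; exact one_mem _
    · obtain rfl : k = ⟨d₁ * d₂, hjK⟩ := e.injective (Subtype.ext (by
        rw [h]
        show bar h₂ = π (Subgroup.inclusion hKH ⟨d₁ * d₂, hjK⟩)
        rw [show Subgroup.inclusion hKH ⟨d₁ * d₂, hjK⟩ = ⟨d₁, hF.self_mem d₁ hd₁⟩ * inc h₂ from rfl, map_mul,
          show π ⟨d₁, hF.self_mem d₁ hd₁⟩ = 1 from (QuotientGroup.eq_one_iff _).2
            (Subgroup.mem_center_iff.2 fun g => Subtype.ext (commute_of_mem_closure g.2).eq), one_mul]))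
      exact Subgroup.mem_zpowers _
  -- the swap
  obtain ⟨x, hx, hx1, hx2⟩ :=
    Products.exists_common_partner hS hD.2.1 hD.2.2 hH.good hd₁ h₂.1 h₂.2.2
  set w := x * (d₁ * d₂) * x
  have hw1 : w * d₁ * w⁻¹ = d₂ := Products.swap_of_partner hS hd₁ h₂.1 hx h₂.2.2 hx1 hx2
  have hw2 : w * d₂ * w⁻¹ = d₁ := by
    have := Products.swap_of_partner hS h₂.1 hd₁ hx h₂.2.2.symm hx2 hx1
    rwa [← h₂.2.2.eq] at this
  have hwL : w ∈ L := (Subgroup.mul_mem_iff_of_index_two hidx).2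
    (iff_of_false (fun h => hout _ hx ((Subgroup.mul_mem_cancel_right L hj).1 h)) (hout _ hx))
  have hfix : ∀ g d : G, Commute g d ↔ g * d * g⁻¹ = d := fun g d => mul_inv_eq_iff_eq_mul.symm
  have hwCL : w ∈ CL := (hCLm w).2 ⟨hwL, (hfix _ _).2 <| by
    rw [show w * (d₁ * d₂) * w⁻¹ = (w * d₁ * w⁻¹) * (w * d₂ * w⁻¹) by group, hw1, hw2, h₂.2.2.eq]⟩
  have hindex : (K.subgroupOf CL).index = 2 := by
    rw [Subgroup.index_eq_two_iff_exists_notMem_and]
    refine ⟨⟨w, hwCL⟩, fun h => hne ?_, fun b => ?_⟩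
    · have := ((hKm w).1 h).2.1
      rw [hfix] at this
      exact this.symm.trans hw1
    · obtain ⟨hbL, hbj⟩ := (hCLm b).1 b.2
      rcases fix_or_swap hD hH.good h4 hd₁ h₂ hbj with ⟨h1, h2⟩ | ⟨h1, h2⟩
      · exact Or.inr ((hKm _).2 ⟨hbL, (hfix _ _).2 h1, (hfix _ _).2 h2⟩)
      · refine Or.inl ((hKm _).2 ⟨mul_mem hbL hwL, (hfix _ _).2 ?_, (hfix _ _).2 ?_⟩) <;>
          show ((b : G) * w) * _ * ((b : G) * w)⁻¹ = _
        · rw [show ((b : G) * w) * d₁ * ((b : G) * w)⁻¹ = b * (w * d₁ * w⁻¹) * (b : G)⁻¹ by group, hw1, h2]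
        · rw [show ((b : G) * w) * d₂ * ((b : G) * w)⁻¹ = b * (w * d₂ * w⁻¹) * (b : G)⁻¹ by group, hw2, h1]
  -- what centralises `K` fixes both factors
  have hcK : ∀ g ∈ CL, (∀ k ∈ K, Commute g k) → g ∈ K := by
    intro g hg hgK
    obtain ⟨hgL, hgj⟩ := (hCLm g).1 hg
    rcases fix_or_swap hD hH.good h4 hd₁ h₂ hgj with ⟨h1, h2⟩ | ⟨h1, h2⟩
    · exact (hKm g).2 ⟨hgL, (hfix _ _).2 h1, (hfix _ _).2 h2⟩
    exfalso
    obtain ⟨U, hU⟩ : (nb (derivedClass D d₁) (bar h₂)).Nonempty :=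
      Set.nonempty_of_ncard_ne_zero (by rw [hQF.ncard_nb _ hb₂]; norm_num)
    obtain ⟨s, hs, -⟩ := (hH.mem_nb_bar hd₁ h₂ U).1 hU
    set s' := g * s * g⁻¹
    have hsK : s * d₁ ∈ K := (hKm _).2 ⟨hmulL (hout _ hs.1.1) (hout _ hd₁),
      hs.1.2.2.symm.mul_left (Commute.refl _), hs.2.2.2.symm.mul_left h₂.2.2⟩
    have he : s' * d₂ = s * d₁ := by
      calc s' * d₂ = g * s * g⁻¹ * (g * d₁ * g⁻¹) := by rw [h1]
        _ = g * (s * d₁) * g⁻¹ := by group
        _ = s * d₁ := (hfix _ _).1 (hgK _ hsK)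
    have he' : s' = s * d₁ * d₂ := by
      rw [← he, mul_assoc, mul_self hS h₂.1, mul_one]
    have c1 : Commute s' d₁ := by
      have := (commute_conj_iff g).2 hs.2.2.2
      rw [h2] at this; exact this.symm
    have c2 : Commute s' d₂ := by
      have := (commute_conj_iff g).2 hs.1.2.2
      rw [h1] at this; exact this.symm
    have cs : Commute s' s := he' ▸ (((Commute.refl s).mul_left hs.1.2.2).mul_left hs.2.2.2)
    have n1 : s' ≠ d₁ := fun h => hs.2.2.1 ((MulAut.conj g).injective (h.trans h2.symm))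
    have n2 : s' ≠ d₂ := fun h => hs.1.2.1 ((MulAut.conj g).injective (h.trans h1.symm))
    have n3 : s' ≠ s := fun h => hne (by
      rw [he', mul_assoc] at h
      exact (mul_eq_one_iff_eq_inv.1 (mul_eq_left.1 h)).trans (inv_eq hS h₂.1))
    refine h4 [s, d₁, d₂, s'] ?_ rfl ?_ ?_ ?_
    · simp [hs.1.2.1, hs.2.2.1, hne, n1.symm, n2.symm, n3.symm]
    · simp [hs.1.1, hd₁, h₂.1, hD.2.1 g s hs.1.1, s']
    · simp [hs.1.2.2, hs.1.2.2.symm, hs.2.2.2, hs.2.2.2.symm, h₂.2.2, h₂.2.2.symm, c1, c1.symm, c2, c2.symm,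
        cs, cs.symm, Commute.refl]
    · simp only [List.prod_cons, List.prod_nil, mul_one]
      rw [← mul_assoc d₁, ← mul_assoc s, ← mul_assoc s, ← he', show s' = g * s * g⁻¹ from rfl,
        mul_self hS (hD.2.1 g s hs.1.1)]
  have hn : (K.subgroupOf CL).Normal := Subgroup.normal_of_index_eq_two hindex
  have hcc : Subgroup.centralizer ((K.subgroupOf CL : Subgroup ↥CL) : Set ↥CL) ≤ K.subgroupOf CL := fun g hg =>
    Subgroup.mem_subgroupOf.2 (hcK g g.2 fun k hk => (congrArg Subtype.val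
      (Subgroup.mem_centralizer_iff.1 hg ⟨k, hKCL hk⟩ hk)).symm)
  have hFK : K = (generalizedFittingSubgroup ↥CL).map CL.subtype := by
    rw [generalizedFittingSubgroup_eq_of_quasisimple hn
      ((Components.quasisimple_subgroupOf_iff hKCL).2 hqs) hcc, Subgroup.map_subgroupOf_eq_of_le hKCL]
  refine ⟨hqs, hFK, hKCL, hindex, hjK, ?_⟩
  -- the automorphisms
  obtain ⟨eF⟩ := hFi
  let eR : ↥K ⧸ Subgroup.center ↥K ≃* Spor.Fi22 := (QuotientGroup.congr _ _ e hcen).trans eF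
  haveI : Finite Spor.Fi22 := Finite.of_equiv _ eR.toEquiv
  obtain ⟨χ, hχ⟩ := exists_action hKCL (fun c hc k hk => hn.conj_mem ⟨k, hKCL hk⟩ hk ⟨c, hc⟩)
    hqs.1.commutator_eq_top
  set J := (Subgroup.zpowers (d₁ * d₂)).subgroupOf CL with hJ
  have hχk : χ.ker = J := by
    ext g
    rw [MonoidHom.mem_ker, hχ, hJ, Subgroup.mem_subgroupOf]
    constructor
    · intro h
      rw [← hZ]
      exact ⟨⟨g, hcK g g.2 h⟩, Subgroup.mem_center_iff.2 fun k => Subtype.ext (h k k.2).eq.symm, rfl⟩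
    · intro h k hk
      rw [← hZ] at h
      obtain ⟨z, hz, hzg⟩ := h
      have := congrArg Subtype.val (Subgroup.mem_center_iff.1 hz ⟨k, hk⟩)
      rw [← hzg]
      exact this.symm
  let χ' : ↥CL →* MulAut Spor.Fi22 := (MulAut.congr eR).toMonoidHom.comp χ
  have hχ'k : χ'.ker = J := by
    rw [← hχk]
    ext g
    simp only [MonoidHom.mem_ker, χ']
    exact (MulAut.congr eR).map_eq_one_iff
  have hzK : Subgroup.zpowers (d₁ * d₂) ≤ K := (Subgroup.zpowers_le).2 hjK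
  have hcardCL : Nat.card ↥CL = 2 * Nat.card ↥K := by
    rw [← Subgroup.card_mul_index (K.subgroupOf CL), hindex,
      Nat.card_congr (Subgroup.subgroupOfEquivOfLe hKCL).toEquiv, mul_comm]
  have hcardK : Nat.card ↥K = Nat.card Spor.Fi22 * Nat.card ↥(Subgroup.zpowers (d₁ * d₂)) := by
    rw [Subgroup.card_eq_card_quotient_mul_card_subgroup (Subgroup.center ↥K),
      Nat.card_congr eR.toEquiv, ← hZ]
    congr 1
    exact Nat.card_congr (Subgroup.equivMapOfInjective _ _ K.subtype_injective).toEquiv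
  have hcardJ : Nat.card ↥CL = Nat.card ↥χ'.range * Nat.card ↥(Subgroup.zpowers (d₁ * d₂)) := by
    rw [Subgroup.card_eq_card_quotient_mul_card_subgroup J,
      Nat.card_congr (Subgroup.subgroupOfEquivOfLe (hzK.trans hKCL)).toEquiv,
      Nat.card_congr ((QuotientGroup.quotientMulEquivOfEq hχ'k.symm).trans
        (QuotientGroup.quotientKerEquivRange χ')).toEquiv]
  have htop : χ'.range = ⊤ := by
    refine Subgroup.eq_top_of_le_card _ ?_
    rw [hcardJ, hcardK, ← mul_assoc] at hcardCL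
    rw [Nat.eq_of_mul_eq_mul_right Nat.card_pos hcardCL]
    exact hAut
  exact ⟨(QuotientGroup.quotientMulEquivOfEq hχ'k.symm).trans
    (QuotientGroup.quotientKerEquivOfSurjective χ' (MonoidHom.range_eq_top.1 htop))⟩

end Cfsg.Agent.Lib.Fischer3T
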